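import Mathlib
import Cfsg.Agent.ZI4.Loc
import Cfsg.Agent.GsD.SB
import Cfsg.Agent.S0483
import Cfsg.Agent.S0111
import Cfsg.Agent.S0215
import Cfsg.Agent.S0206

/-! Quasisimple groups with a Sylow 2-subgroup whose centre has index four. -/

set_option autoImplicit false
set_option linter.unusedSectionVars false

namespace Cfsg.Agent.ZI4

open Subgroup Cfsg.Agent.LocalEven Cfsg.Agent.GsD Cfsg.Agent.GW
open scoped commutatorElement

universe u

variable {G : Type u} [Group G] [Finite G] {P : Subgroup G} {z : G}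

theorem ord2 {x : G} (h : x * x = 1) (h1 : x ≠ 1) : orderOf x = 2 := orderOf_eq_prime (by rw [sq, h]) h1

theorem St.gen (h : St P z) {x y : G} (hx : x ∈ P) (hy : y ∈ P) (hxy : x * y ≠ y * x) {K : Subgroup G}
    (h1 : x ∈ K) (h2 : y ∈ K) (h3 : Zc P ≤ K) : P ≤ K := fun w hw => by
  rcases h.cos x hx y hy hxy w hw with h4 | h4 | h4 | h4
  · exact h3 h4
  · exact (mul_mem_cancel_left (inv_mem h1)).1 (h3 h4)
  · exact (mul_mem_cancel_left (inv_mem h2)).1 (h3 h4)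
  · exact (mul_mem_cancel_left (inv_mem (mul_mem h1 h2))).1 (h3 h4)

theorem St.ess (h : St P z) {x : G} (hx : x ∈ P) (hx' : x ∉ Zc P) (hz : z ∉ Cb P x) :
    ∃ y ∈ Bx P x, y ∉ Zc P ∧ Bx P y = Bx P x ∧ IsConj z y ∧ y * y = 1 := by
  obtain ⟨m, hm, h1⟩ : ∃ m ∈ normalizer (Bx P x : Set G), m * z * m⁻¹ ∉ Zc P := by
    simpa only [mem_Cb, not_forall, exists_prop] using hz
  have hy := conj_mem_of_mem_normalizer hm (Zc_le hx h.zZ)
  exact ⟨_, hy, h1, h.bx_eq hx hx' hy h1, isConj_iff.2 ⟨m, rfl⟩, by rw [conj_mul, h.z2]; simp⟩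

theorem cb_congr {x y : G} (h : Bx P y = Bx P x) : Cb P y = Cb P x := by rw [Cb, Cb, h]

section
variable [IsSimpleGroup G]

theorem odd_bot {t : G} (ht : orderOf t = 2) (N : Subgroup G) [hN : N.Normal] (h : Odd (Nat.card N)) :
    N = ⊥ := (hN.eq_bot_or_eq_top).resolve_right fun h1 => by
  have := N.orderOf_dvd_natCard (h1 ▸ mem_top t)
  rw [ht] at this
  exact Nat.not_even_iff_odd.2 h (even_iff_two_dvd.2 this)

theorem sa_simple (hna : ¬ IsMulCommutative G) {t : G} (ht : orderOf t = 2) {A T : Subgroup G}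
    (h : SA A T) (h1 : A ≠ ⊥) : (∀ a ∈ A, a * a = 1) ∧ ∀ t ∈ T, t * t = 1 → t ∈ A := by
  have hO : oOf (⊤ : Subgroup G) = ⊥ := by
    have := normalizer_eq_top_iff.1 (top_le_iff.1 (le_normalizer_oOf (⊤ : Subgroup G)))
    exact odd_bot ht _ (odd_oOf _)
  have hK : ∀ N : Subgroup G, N.Normal → A ≤ N → N = ⊤ := fun N hN h2 =>
    hN.eq_bot_or_eq_top.resolve_left fun h3 => h1 (le_bot_iff.1 (h3 ▸ h2))
  have h2 : A ⊓ pCore 2 G = ⊥ := by
    rcases (inferInstance : (pCore 2 G).Normal).eq_bot_or_eq_top with h3 | h3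
    · rw [h3, inf_bot_eq]
    · have h4 := Core.pCore_isPGroup (G := G) 2
      rw [h3] at h4
      have := (h4.of_equiv topEquiv).isNilpotent
      exact (hna ⟨⟨IsSimpleGroup.comm_iff_isSolvable.2 inferInstance⟩⟩).elim
  exact ⟨h.sq hO hK h2, (h.base hO hK h2).2.2.2.1⟩

theorem gw (hna : ¬ IsMulCommutative G) (hP : IsSylowIn 2 P ⊤) {x y : G} (hx : x ∈ P) (hy : y ∈ P)
    (h1 : orderOf x = 2) (h2 : orderOf y = 2) (hxy : x ≠ y) (h3 : P ≤ closure {x, y}) :
    (∃ (F : Type) (_ : Field F) (_ : Fintype F), Odd (Fintype.card F) ∧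
      Nonempty (G ≃* Matrix.ProjectiveSpecialLinearGroup (Fin 2) F)) ∨
      Nonempty (G ≃* alternatingGroup (Fin 7)) := by
  have : Group.IsPerfect G := ⟨(inferInstance : (_root_.commutator G).Normal).eq_bot_or_eq_top.resolve_left
    fun h => hna ⟨⟨fun a b => commutatorElement_eq_one_iff_mul_comm.1
      (mem_bot.1 (h ▸ commutator_mem_commutator (mem_top a) (mem_top b)))⟩⟩⟩
  have hO : oddCore G = ⊥ := odd_bot h1 _ (Nat.coprime_two_right.1 (Core.pPrimeCore_coprime 2))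
  have e : G ≃* G ⧸ oddCore G := ((QuotientGroup.quotientMulEquivOfEq hO).trans QuotientGroup.quotientBot).symm
  have h4 : P = closure {x, y} := le_antisymm h3 ((closure_le _).2 (by
    rintro _ (rfl | rfl); exacts [hx, hy]))
  obtain ⟨e1⟩ := S0206.result x y h1 h2 hxy
  have h5 : 2 ≤ orderOf (x * y) := by
    have := orderOf_pos (x * y)
    have : orderOf (x * y) ≠ 1 := fun h => hxy (by
      rw [orderOf_eq_one_iff, mul_eq_one_iff_eq_inv] at h
      rw [h, inv_eq_iff_mul_eq_one, ← sq, ← h2, pow_orderOf_eq_one])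
    omega
  rcases S0483.result hP.toSylowTop _ h5 ⟨(MulEquiv.subgroupCongr h4).trans e1⟩ with
    ⟨F, _, _, h6, -, ⟨e2⟩⟩ | ⟨⟨e2⟩⟩
  · exact .inl ⟨F, _, _, h6, ⟨e.trans e2⟩⟩
  · exact .inr ⟨e.trans e2⟩

theorem St.wc (h : St P z) (hna : ¬ IsMulCommutative G) : Wc P = ⊥ := by
  by_contra h1
  have hz := (sa_simple hna h.ord (A := Wc P) (T := P) ⟨h.syl, fun a ha => ha.1.1, fun a ha => h.cl ha,
    fun a ha b hb => hb.1.2 a ha.1.1⟩ h1).2 z h.zP h.z2
  obtain ⟨N, hN, h2, h3⟩ := S0215.result h.syl.toSylowTop z h.ord h.zP fun g hg =>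
    h.eq_z (h.cl hz g hg).1
  rw [odd_bot h.ord N h2] at h3
  rcases (inferInstance : (center G).Normal).eq_bot_or_eq_top with h4 | h4
  · exact h.z1 (mem_bot.1 (h4 ▸ mem_center_iff.2 fun g => by
      have := mem_bot.1 (h3 g)
      rw [mul_inv_eq_one, mul_inv_eq_iff_eq_mul] at this
      exact this.symm))
  · exact hna ⟨⟨fun a b => mem_center_iff.1 (h4 ▸ mem_top b) a⟩⟩

theorem St.no_c (h : St P z) {x y c : G} (hx : x ∈ P) (hy : y ∈ P) (hxy : x * y ≠ y * x)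
    (x2 : x * x = 1) (y2 : y * y = 1) (cx : IsConj z x) (cy : IsConj z y) (hc : c ∈ Zc P)
    (c1 : c ≠ 1) (cz : c ≠ z) (c2 : c * c = 1)
    (hZ : ∀ a ∈ Zc P, a = 1 ∨ a = z ∨ a * c = 1 ∨ a * c = z) : False := by
  have e1 : y * x = x * y * z := (h.com y hy x hx).resolve_left hxy.symm
  have r1 : ∀ w, x * (x * w) = w := fun w => by rw [← mul_assoc, x2, one_mul]
  have r2 : ∀ w, y * (y * w) = w := fun w => by rw [← mul_assoc, y2, one_mul]
  have r3 : ∀ w, y * (x * w) = x * (y * (z * w)) := fun w => by rw [← mul_assoc, e1]; simp only [mul_assoc]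
  have r4 : ∀ w, z * (y * w) = y * (z * w) := fun w => by rw [← mul_assoc, ← h.cz hy, mul_assoc]
  have r5 : ∀ w, z * (z * w) = w := fun w => by rw [← mul_assoc, h.z2, one_mul]
  have r6 : ∀ w, z * (x * w) = x * (z * w) := fun w => by rw [← mul_assoc, ← h.cz hx, mul_assoc]
  have hD : ∀ d ∈ closure ({x, y} : Set G), d = 1 ∨ d = z ∨ d = x ∨ d = x * z ∨ d = y ∨ d = y * z ∨
      d = x * y ∨ d = x * (y * z) := fun d hd => by
    have key : ∀ s ∈ ({x, y} : Set G), ∀ d, (d = 1 ∨ d = z ∨ d = x ∨ d = x * z ∨ d = y ∨ d = y * z ∨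
        d = x * y ∨ d = x * (y * z)) → s * d = 1 ∨ s * d = z ∨ s * d = x ∨ s * d = x * z ∨ s * d = y ∨
        s * d = y * z ∨ s * d = x * y ∨ s * d = x * (y * z) := by
      rintro s (hs | hs) d (hd | hd | hd | hd | hd | hd | hd | hd) <;> rw [hs, hd] <;>
        simp only [r1, r2, r3, r4, r5, x2, y2, e1, h.z2, ← h.cz hy, mul_assoc, mul_one, true_or, or_true]
    induction hd using closure_induction_left with
    | one => exact .inl rfl
    | mul_left s hs d _ ih => exact key s hs d ih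
    | inv_mul_cancel s hs d _ ih =>
      have : s⁻¹ = s := by
        rcases hs with hs | hs <;> rw [hs, inv_eq_iff_mul_eq_one]
        exacts [x2, y2]
      rw [this]
      exact key s hs d ih
  have hx' : x ∈ closure ({x, y} : Set G) := subset_closure (.inl rfl)
  have hy' : y ∈ closure ({x, y} : Set G) := subset_closure (.inr rfl)
  have hz' : z ∈ closure ({x, y} : Set G) :=
    (mul_mem_cancel_left (mul_mem hx' hy')).1 (e1 ▸ mul_mem hy' hx')
  have hcj : ∀ g, g * c * g⁻¹ ∉ closure ({x, y} : Set G) := fun g hg => by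
    have h1 : IsConj z (g * c * g⁻¹) := by
      have h2 : g * c * g⁻¹ * (g * c * g⁻¹) = 1 := by rw [conj_mul, c2]; simp
      rcases hD _ hg with h3 | h3 | h3 | h3 | h3 | h3 | h3 | h3 <;> rw [h3] at h2 ⊢
      · exact (c1 (conj_eq_one_iff.1 h3)).elim
      · exact cx
      · exact cx.trans (isConj_iff.2 ⟨y, (h.cj_or hy hx).resolve_left fun h4 =>
          hxy (mul_inv_eq_iff_eq_mul.1 h4).symm⟩)
      · exact cy
      · exact cy.trans (isConj_iff.2 ⟨x, (h.cj_or hx hy).resolve_left fun h4 =>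
          hxy (mul_inv_eq_iff_eq_mul.1 h4)⟩)
      · simp only [r1, r2, r3, ← h.cz hy, mul_assoc] at h2
        exact (h.z1 h2).elim
      · simp only [r1, r2, r3, r4, r5, r6, mul_assoc] at h2
        exact (h.z1 h2).elim
    obtain ⟨k, hk⟩ := isConj_iff.1 (h1.trans (isConj_iff.2 ⟨g, rfl⟩).symm)
    exact cz (hk.symm.trans (h.eq_z (hk ▸ hc)))
  have hcD : c ∉ closure ({x, y} : Set G) := by simpa using hcj 1
  have hle : closure ({x, y} : Set G) ≤ P := (closure_le _).2 (by rintro _ (rfl | rfl); exacts [hx, hy])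
  have hi : (closure ({x, y} : Set G)).relIndex P = 2 := relIndex_eq_two_iff.2 ⟨c, hc.1, fun b hb => by
    by_cases h1 : b ∈ closure ({x, y} : Set G)
    · exact .inr ⟨h1, fun h2 => hcD ((mul_mem_cancel_left h1).1 h2)⟩
    refine .inl ⟨?_, h1⟩
    have key : ∀ d ∈ closure ({x, y} : Set G), d⁻¹ * b ∈ Zc P → b * c ∈ closure ({x, y} : Set G) :=
      fun d hd h2 => by
        rcases hZ _ h2 with h3 | h3 | h3 | h3
        · exact (h1 ((mul_mem_cancel_left (inv_mem hd)).1 (h3 ▸ one_mem _))).elim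
        · exact (h1 ((mul_mem_cancel_left (inv_mem hd)).1 (h3 ▸ hz'))).elim
        · exact (mul_mem_cancel_left (inv_mem hd)).1 (by rw [← mul_assoc, h3]; exact one_mem _)
        · exact (mul_mem_cancel_left (inv_mem hd)).1 (by rw [← mul_assoc, h3]; exact hz')
    rcases h.cos x hx y hy hxy b hb with h2 | h2 | h2 | h2
    · exact key 1 (one_mem _) (by simpa using h2)
    · exact key x hx' h2
    · exact key y hy' h2
    · exact key _ (mul_mem hx' hy') h2⟩
  rcases S0111.result h.syl.toSylowTop _ hle hi c (ord2 c2 c1) hc.1 hcD with ⟨M, hM, h1, h2⟩ | ⟨g, hg⟩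
  · rcases hM.eq_bot_or_eq_top with rfl | rfl
    · have := (mul_mem_iff_of_index_two h1 (a := c) (b := z)).2 (by simp [c1, h.z1])
      exact cz (by rw [← mul_left_inj z, mem_bot.1 this, h.z2])
    · exact h2 (mem_top _)
  · exact hcj g hg

theorem St.simple (h : St P z) (hna : ¬ IsMulCommutative G) : (∀ a ∈ Zc P, a = 1 ∨ a = z) ∧
    ∃ x ∈ P, ∃ y ∈ P, x * x = 1 ∧ y * y = 1 ∧ x * y ≠ y * x := by
  have hW : ∀ a ∈ Zc P, (∀ x ∈ P, x ∉ Zc P → a ∈ Cb P x) → a = 1 := fun a ha h1 =>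
    mem_bot.1 (h.wc hna ▸ mem_Wc.2 ⟨ha, h1⟩)
  have ez : ∀ {a}, a * z = 1 → a = z := fun h1 => by rw [← mul_left_inj z, h1, h.z2]
  obtain ⟨x₀, hx₀, hx₀', h0⟩ : ∃ x ∈ P, x ∉ Zc P ∧ z ∉ Cb P x := by
    by_contra h1
    push Not at h1
    exact h.z1 (hW z h.zZ h1)
  obtain ⟨x, ⟨hx, -⟩, hx', h1, cx, x2⟩ := h.ess hx₀ hx₀' h0
  rw [← cb_congr h1] at h0
  by_cases hE : ∃ y ∈ P, y ∉ Bx P x ∧ z ∉ Cb P y
  swap
  · push Not at hE
    have h2 : ∀ a ∈ Zc P, a ∈ Cb P x → a = 1 := fun a ha h2 => hW a ha fun y hy hy' => by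
      by_cases h3 : y ∈ Bx P x
      · rwa [cb_congr (h.bx_eq hx hx' h3 hy')]
      · exact h.cb_all hy (hE y hy h3) ha
    have h3 : ∀ a ∈ Zc P, a = 1 ∨ a = z := fun a ha => (h.cb_or hx hx' ha).imp (h2 a ha)
      fun h3 => ez (h2 _ (mul_mem ha h.zZ) h3)
    obtain ⟨t, ht, h4⟩ := exists_nc hx hx'
    rcases h3 _ (h.sq ht) with h5 | h5
    · exact ⟨h3, t, ht, x, hx, h5, x2, h4⟩
    · refine ⟨h3, t * x, mul_mem ht hx, x, hx, ?_, x2, fun h6 => h4 ?_⟩
      · rw [mul_assoc, ← mul_assoc x, (h.com x hx t ht).resolve_left h4.symm, mul_assoc _ z, ← h.cz hx,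
          mul_assoc t x, ← mul_assoc x, x2, one_mul, ← mul_assoc, h5, h.z2]
      · rw [← mul_assoc, mul_left_inj] at h6
        exact h6
  obtain ⟨y₀, hy₀, h2, h3⟩ := hE
  have hy₀' : y₀ ∉ Zc P := fun h4 => h2 (Zc_le hx h4)
  obtain ⟨y, ⟨hy, -⟩, hy', h4, cy, y2⟩ := h.ess hy₀ hy₀' h3
  rw [← cb_congr h4] at h3
  have hxy : x * y ≠ y * x := fun h5 => h2 (by
    rw [← h.bx_eq hx hx' (mem_Bx.2 ⟨hy, h5.symm⟩) hy', h4]
    exact mem_Bx.2 ⟨hy₀, rfl⟩)
  refine ⟨?_, x, hx, y, hy, x2, y2, hxy⟩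
  have hw := mul_mem hx hy
  have hw' : x * y ∉ Zc P := fun h5 => hxy (by
    have := h5.2 x hx
    rwa [mul_assoc, mul_right_inj] at this)
  have hz3 : z ∈ Cb P (x * y) := by
    by_contra h5
    obtain ⟨v, hv, hv', -, -, v2⟩ := h.ess hw hw' h5
    obtain ⟨a, rfl⟩ : ∃ a, v = x * y * a := ⟨(x * y)⁻¹ * v, by group⟩
    have ha := (h.bx hw hw' hv).resolve_left hv'
    rw [inv_mul_cancel_left] at ha
    have h6 : a * a = z := ez (by
      have e : x * y * (x * y) = z := by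
        rw [mul_assoc, ← mul_assoc y, (h.com y hy x hx).resolve_left hxy.symm, mul_assoc _ z, ← h.cz hy,
          mul_assoc x y, ← mul_assoc y, y2, one_mul, ← mul_assoc x, x2, one_mul]
      rw [mul_assoc (x * y) a, ← mul_assoc a, ← ha.2 _ hw, mul_assoc (x * y) a, ← mul_assoc, e] at v2
      rw [h.cz (P.mul_mem ha.1 ha.1), v2])
    rcases h.cb_or hw hw' ha with h7 | h7
    · exact h5 (h6 ▸ mul_mem h7 h7)
    · have h8 := mul_mem h7 h7
      rw [mul_assoc, ← mul_assoc z, ← h.cz ha.1, mul_assoc, h.z2, mul_one, h6] at h8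
      exact h5 h8
  have hone : ∀ a ∈ Zc P, a ∈ Cb P x → a ∈ Cb P y → a = 1 := fun a ha h5 h6 => hW a ha fun w hw1 hw2 => by
    rcases h.cos x hx y hy hxy w hw1 with h7 | h7 | h7 | h7
    · exact (hw2 h7).elim
    · rwa [cb_congr (h.bx_eq hx hx' (mem_Bx.2 ⟨hw1, comm_of_Zc hx h7⟩) hw2)]
    · rwa [cb_congr (h.bx_eq hy hy' (mem_Bx.2 ⟨hw1, comm_of_Zc hy h7⟩) hw2)]
    · exact h.cb_all hw1 (by rwa [cb_congr (h.bx_eq hw hw' (mem_Bx.2 ⟨hw1, comm_of_Zc hw h7⟩) hw2)]) ha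
  by_contra h5
  obtain ⟨c, hc, c1, hcx⟩ : ∃ c ∈ Zc P, c ≠ 1 ∧ c ∈ Cb P x := by
    by_contra h6
    push Not at h6
    exact h5 fun a ha => (h.cb_or hx hx' ha).imp (fun h7 => by_contra fun h8 => h6 a ha h8 h7)
      fun h7 => ez (by_contra fun h8 => h6 _ (mul_mem ha h.zZ) h8 h7)
  have hcy := (h.cb_or hy hy' hc).resolve_left fun h6 => c1 (hone c hc hcx h6)
  have h6 : ∀ a ∈ Zc P, a ∈ Cb P x → a = 1 ∨ a * c = 1 := fun a ha h6 =>
    (h.cb_or hy hy' ha).imp (hone a ha h6) fun h7 => hone _ (mul_mem ha hc) (mul_mem h6 hcx) (by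
      have h8 := mul_mem h7 hcy
      rwa [mul_assoc, ← mul_assoc z, ← h.cz hc.1, mul_assoc, h.z2, mul_one] at h8)
  refine h.no_c hx hy hxy x2 y2 cx cy hc c1 (fun h7 => h0 (h7 ▸ hcx)) ((h6 c hc hcx).resolve_left c1)
    fun a ha => ?_
  rcases h.cb_or hx hx' ha with h7 | h7
  · exact (h6 a ha h7).imp_right fun h8 => .inr (.inl h8)
  · refine .inr ((h6 _ (mul_mem ha h.zZ) h7).imp ez fun h8 => .inr (ez ?_))
    rw [mul_assoc, h.cz hc.1, ← mul_assoc, h8]

end

theorem St.cent (h : St P z) (hp : _root_.commutator G = ⊤) {a : G} (ha : a ∈ P) (hc : a ∈ center G) :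
    a = 1 ∨ a = z := by
  let E : Subgroup G :=
    { carrier := {a | a = 1 ∨ a = z}
      one_mem' := .inl rfl
      mul_mem' := by rintro a b (h1 | h1) (h2 | h2) <;> simp [h1, h2, h.z2]
      inv_mem' := by
        rintro a (h1 | h1) <;> rw [h1]
        · exact .inl inv_one
        · exact .inr (inv_eq_of_mul_eq_one_right h.z2) }
  refine (commutator_le.2 fun x hx y hy => ?_ : ⁅P, P⁆ ≤ E)
    (mem_comm_of_cent hp h.syl ha (mem_centralizer_iff.2 fun g _ => mem_center_iff.1 hc g))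
  refine (h.com x hx y hy).imp commutatorElement_eq_one_iff_mul_comm.2 fun h1 => ?_
  rw [commutatorElement_def, h1, h.cz (mul_mem hy hx)]
  group

theorem St.main (h : St P z) (hq : IsQuasisimple G) : (∀ a ∈ Zc P, a = 1 ∨ a = z) ∧
    ((∃ (F : Type) (_ : Field F) (_ : Fintype F), Odd (Fintype.card F) ∧
      Nonempty (G ⧸ center G ≃* Matrix.ProjectiveSpecialLinearGroup (Fin 2) F)) ∨
      Nonempty (G ⧸ center G ≃* alternatingGroup (Fin 7))) := by
  have hp : _root_.commutator G = ⊤ := hq.1.1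
  have := hq.2
  let f := QuotientGroup.mk' (center G)
  have hf : Function.Surjective f := QuotientGroup.mk'_surjective _
  have hk : ∀ {a}, f a = 1 ↔ a ∈ center G := QuotientGroup.eq_one_iff _
  obtain ⟨a, ha, b, hb, hab⟩ := h.ex
  have hab' : a * b ≠ b * a := fun h1 => h.z1 (by rwa [h1, left_eq_mul] at hab)
  have hna : ¬ IsMulCommutative (G ⧸ center G) := fun h1 => hab' (mem_center_iff.1
    (Normal.quotient_commutative_iff_commutator_le.1 h1 (hp ▸ mem_top b)) a)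
  have hT := h.syl.map f
  rw [map_top_of_surjective f hf] at hT
  by_cases hz : z ∈ center G
  · have a1 : f a ≠ 1 := fun h1 => hab' (mem_center_iff.1 (hk.1 h1) b).symm
    have b1 : f b ≠ 1 := fun h1 => hab' (mem_center_iff.1 (hk.1 h1) a)
    have hne : P.map f ≠ ⊥ := fun h1 => a1 (mem_bot.1 (h1 ▸ mem_map_of_mem f ha))
    obtain ⟨t, ht⟩ : ∃ t : G ⧸ center G, orderOf t = 2 := by
      have := (nontrivial_iff_ne_bot _).2 hne
      obtain ⟨t, ht⟩ := exists_prime_orderOf_dvd_card' (G := P.map f) 2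
        (hT.pgrp.card_eq_or_dvd.resolve_left Finite.one_lt_card.ne')
      exact ⟨t, (orderOf_coe t).trans ht⟩
    have hsq := (sa_simple hna ht (A := P.map f) ⟨hT, le_rfl, fun _ _ _ h1 => h1, by
      rintro - ⟨x, hx, rfl⟩ - ⟨y, hy, rfl⟩
      rcases h.com x hx y hy with h1 | h1 <;> rw [← map_mul, h1]
      · rw [map_mul]
      · rw [map_mul, hk.2 hz, mul_one, map_mul]⟩ hne).1
    have eqv : ∀ {x c}, c ∈ Zc P → f c = f x → ∀ y ∈ P, y * x = x * y := fun {x c} hc h1 y hy => by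
      have h2 := mem_center_iff.1 (hk.1 (show f (c⁻¹ * x) = 1 by rw [map_mul, map_inv, h1, inv_mul_cancel])) y
      rw [← mul_right_inj c⁻¹, ← mul_assoc, ← (inv_mem hc : c⁻¹ ∈ Zc P).2 y hy, mul_assoc, h2, mul_assoc]
    have hZ : (Zc P).map f = ⊥ := by
      by_contra h1
      obtain ⟨c, hc, h2⟩ := (sa_simple hna ht (SA.map (A := Zc P) ⟨h.syl, fun _ h2 => h2.1, fun c hc g hg =>
        (h.cl (mem_Wc.2 ⟨hc, fun x hx _ => h.cb_all hx (mem_Cb.2 fun n _ => by
          rw [mem_center_iff.1 hz n, mul_inv_cancel_right]; exact h.zZ) hc⟩) g hg).1,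
        fun c hc d hd => hd.2 c hc.1⟩ f hf) h1).2 _ (mem_map_of_mem f hb) (hsq _ (mem_map_of_mem f hb))
      exact hab' (eqv hc h2 a ha)
    refine ⟨fun c hc => h.cent hp hc.1 (hk.1 (mem_bot.1 (hZ ▸ mem_map_of_mem f hc))),
      gw hna hT (mem_map_of_mem f ha) (mem_map_of_mem f hb) (ord2 (hsq _ (mem_map_of_mem f ha)) a1)
        (ord2 (hsq _ (mem_map_of_mem f hb)) b1) (fun h1 => hab' ?_) (map_le_iff_le_comap.2
          (h.gen ha hb hab' (subset_closure (.inl rfl)) (subset_closure (.inr rfl))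
            (map_le_iff_le_comap.1 (hZ ▸ bot_le))))⟩
    have h2 := mem_center_iff.1 (hk.1 (show f (a⁻¹ * b) = 1 by rw [map_mul, map_inv, h1, inv_mul_cancel])) a
    rw [← mul_right_inj a⁻¹, ← mul_assoc, ← mul_assoc, ← h2]
    group
  have inj : ∀ {x y}, x ∈ P → y ∈ P → f x = f y → x = y := fun {x y} hx hy h1 => by
    have h2 := hk.1 (show f (x⁻¹ * y) = 1 by rw [map_mul, map_inv, h1, inv_mul_cancel])
    exact inv_mul_eq_one.1 ((h.cent hp (mul_mem (inv_mem hx) hy) h2).resolve_right fun h3 => hz (h3 ▸ h2))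
  have mZ : ∀ {c}, c ∈ Zc P → f c ∈ Zc (P.map f) := fun {c} hc => ⟨mem_map_of_mem f hc.1, by
    rintro - ⟨x, hx, rfl⟩
    rw [← map_mul, hc.2 x hx, map_mul]⟩
  have h' : St (P.map f) (f z) := ⟨hT, mZ h.zZ, fun h1 => hz (hk.1 h1), by rw [← map_mul, h.z2, map_one],
    ⟨_, mem_map_of_mem f ha, _, mem_map_of_mem f hb, by rw [← map_mul, hab, map_mul, map_mul]⟩, by
      rintro - ⟨x, hx, rfl⟩ - ⟨y, hy, rfl⟩
      simp only [← map_mul]
      exact (h.com x hx y hy).imp (congrArg f) (congrArg f), by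
      rintro - ⟨x, hx, rfl⟩ - ⟨y, hy, rfl⟩ h1 - ⟨w, hw, rfl⟩
      simp only [← map_mul, ← map_inv] at h1 ⊢
      exact (h.cos x hx y hy (fun h2 => h1 (congrArg f h2)) w hw).imp mZ (.imp mZ (.imp mZ mZ))⟩
  obtain ⟨h1, x, hx, y, hy, x2, y2, hxy⟩ := h'.simple hna
  have hx' : x ∈ closure ({x, y} : Set (G ⧸ center G)) := subset_closure (.inl rfl)
  have hy' : y ∈ closure ({x, y} : Set (G ⧸ center G)) := subset_closure (.inr rfl)
  refine ⟨fun c hc => (h1 _ (mZ hc)).imp (fun h2 => inj hc.1 (one_mem _) (h2.trans (map_one f).symm))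
    (inj hc.1 h.zP), gw hna hT hx hy (ord2 x2 fun h2 => hxy (by simp [h2]))
      (ord2 y2 fun h2 => hxy (by simp [h2])) (fun h2 => hxy (by rw [h2])) (h'.gen hx hy hxy hx' hy' fun c hc => ?_)⟩
  rcases h1 c hc with rfl | rfl
  · exact one_mem _
  · exact (mul_mem_cancel_left (mul_mem hy' hx')).1
      ((h'.com x hx y hy).resolve_left hxy ▸ mul_mem hx' hy')

end Cfsg.Agent.ZI4
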